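import Cfsg.Agent.H942.DF.Frob
import Cfsg.Agent.H544.L34.DNil
import Cfsg.Agent.H436.L34.Desc
import Cfsg.Agent.H544.L34.Rat

/-!
# S5917, type D, row EVEN (D4'): the module `Z0` over `F₂` (helper400)

* `Z2 v` : `v = hx x` with `x 0 = x 1 = 0` (the span of `zX 0`, `zX 1`);
* `Z0 z` : the vectors `t` of `L2` with `Z2 (aK z⁻¹ (up t))`;
* `two_le` : `2 ≤ finrank Z0`; `sq_three` : `sq2 (sq2 (sq2 t)) = t`.
-/

set_option autoImplicit false
set_option maxRecDepth 100000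

namespace Cfsg.Agent.H400.L34.Even

open Cfsg Cfsg.Lie Cfsg.Lie.ChevalleyDatum
open Cfsg.Agent.ChevalleyStructure Cfsg.Agent.ChevalleyStructure.LieAbs Cfsg.Agent.ChevalleyStructure.LieAut
open Cfsg.Agent.H939.L64 Cfsg.Agent.H413.L16 Cfsg.Agent.H201.L34 Cfsg.Agent.H251.L34
open Cfsg.Agent.H876.L64 Cfsg.Agent.H942.DF
open Cfsg.Agent.H413.L64 (charKK)
open Cfsg.Agent.H129.TorusUntw (phi)
open Cfsg.Agent.BpExc.RowsUntw (e8T)
open Cfsg.Agent.H436.L34 (aK_em_up F2 FK mem_F2 mem_FK desc_sum)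

local notation "ZX" => Cfsg.Agent.H942.DF.zX
local notation "SQ" => Cfsg.Agent.H201.L34.sq
local notation "FR" => Cfsg.Agent.H939.L64.fr

/-! ### linear algebra of `hx` -/

theorem hx_add (x y : Fin 4 → KK) : hx (x + y) = hx x + hx y := by
  funext j
  rcases j with i | s
  · show ∑ m, (x m + y m) * ((HB m i : ℤ) : KK) = ∑ m, x m * ((HB m i : ℤ) : KK) + ∑ m, y m * ((HB m i : ℤ) : KK)
    rw [← Finset.sum_add_distrib]
    exact Finset.sum_congr rfl fun m _ => add_mul _ _ _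
  · show (0 : KK) = 0 + 0
    rw [add_zero]

theorem hx_smul (c : KK) (x : Fin 4 → KK) : hx (c • x) = c • hx x := by
  funext j
  rcases j with i | s
  · show ∑ m, (c * x m) * ((HB m i : ℤ) : KK) = c * ∑ m, x m * ((HB m i : ℤ) : KK)
    rw [Finset.mul_sum]
    exact Finset.sum_congr rfl fun m _ => mul_assoc _ _ _
  · show (0 : KK) = c * 0
    rw [mul_zero]

theorem hx_zero : hx 0 = 0 := by
  have := hx_smul 0 0
  rwa [zero_smul, zero_smul] at this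

/-- the Frobenius map is the restricted square on the Cartan algebra -/
theorem sq_hx (x : Fin 4 → KK) : SQ (hx x) = FR (hx x) := by
  unfold hx
  rw [sq_hv]
  funext j
  rcases j with i | s
  · rfl
  · show (0 : KK) = 0 ^ 2
    rw [zero_pow two_ne_zero]

/-- the span of `zX 0`, `zX 1` -/
def Z2 (v : LK) : Prop := ∃ x : Fin 4 → KK, x 0 = 0 ∧ x 1 = 0 ∧ v = hx x

theorem Z2.zero : Z2 0 := ⟨0, rfl, rfl, hx_zero.symm⟩

theorem Z2.add {v w : LK} (hv : Z2 v) (hw : Z2 w) : Z2 (v + w) := by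
  obtain ⟨x, x0, x1, rfl⟩ := hv
  obtain ⟨y, y0, y1, rfl⟩ := hw
  exact ⟨x + y, by rw [Pi.add_apply, x0, y0, add_zero], by rw [Pi.add_apply, x1, y1, add_zero], (hx_add x y).symm⟩

theorem Z2.smul {v : LK} (c : KK) (hv : Z2 v) : Z2 (c • v) := by
  obtain ⟨x, x0, x1, rfl⟩ := hv
  exact ⟨c • x, by rw [Pi.smul_apply, x0, smul_zero], by rw [Pi.smul_apply, x1, smul_zero], (hx_smul c x).symm⟩

theorem Z2.zx (X : Fin 3) : Z2 (ZX X) := by
  have zt : ∀ X, zc X 0 = 0 ∧ zc X 1 = 0 := by decide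
  exact ⟨_, by rw [(zt X).1, Int.cast_zero], by rw [(zt X).2, Int.cast_zero], rfl⟩

theorem Z2.sq {v : LK} (hv : Z2 v) : SQ v = FR v := by
  obtain ⟨x, -, -, rfl⟩ := hv
  exact sq_hx x

theorem Z2.eq {v : LK} (hv : Z2 v) : ∃ a b : KK, v = a • ZX 0 + b • ZX 1 := by
  obtain ⟨x, x0, x1, rfl⟩ := hv
  refine ⟨x 2, x 3, ?_⟩
  unfold Cfsg.Agent.H942.DF.zX
  rw [← hx_smul, ← hx_smul, ← hx_add]
  congr 1
  funext m
  fin_cases m <;> simp [zc, x0, x1]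

theorem Z2.of (a b : KK) : Z2 (a • ZX 0 + b • ZX 1) := ((Z2.zx 0).smul a).add ((Z2.zx 1).smul b)

theorem zX_two : ZX 2 = ZX 0 + ZX 1 := by
  unfold Cfsg.Agent.H942.DF.zX
  rw [← hx_add]
  congr 1
  funext m
  fin_cases m <;> simp [zc]

theorem fr_comb (a b : KK) (v w : LK) :
    FR (a • v + b • w) = a ^ 2 • FR v + b ^ 2 • FR w := by
  rw [fr_add, Cfsg.Agent.H942.DF.fr_smul, Cfsg.Agent.H942.DF.fr_smul]

theorem Z2.sq_mem {v : LK} (hv : Z2 v) : Z2 (SQ v) := by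
  rw [hv.sq]
  obtain ⟨a, b, rfl⟩ := hv.eq
  rw [fr_comb, fr_zX, fr_zX]
  exact Z2.of _ _

/-- the coordinates -/
theorem coef {a b c d : KK} (h : a • ZX 0 + b • ZX 1 = c • ZX 0 + d • ZX 1) : a = c ∧ b = d := by
  have e : ∀ a b : KK, a • ZX 0 + b • ZX 1 = hx ![0, 0, a, b] := by
    intro a b
    unfold Cfsg.Agent.H942.DF.zX
    rw [← hx_smul, ← hx_smul, ← hx_add]
    congr 1
    funext m
    fin_cases m <;> simp [zc]
  rw [e, e] at h
  have h2 := congrFun h (Sum.inl ⟨2, by rw [rk8]; norm_num⟩)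
  have h1 := congrFun h (Sum.inl ⟨1, by rw [rk8]; norm_num⟩)
  have k2 : ∀ a b : KK, hx ![0, 0, a, b] (Sum.inl ⟨2, by rw [rk8]; norm_num⟩) = a := by
    intro a b
    show ∑ m, (![0, 0, a, b] : Fin 4 → KK) m * ((HB m 2 : ℤ) : KK) = a
    rw [Fin.sum_univ_four]
    simp [HB]
  have k1 : ∀ a b : KK, hx ![0, 0, a, b] (Sum.inl ⟨1, by rw [rk8]; norm_num⟩) = b := by
    intro a b
    show ∑ m, (![0, 0, a, b] : Fin 4 → KK) m * ((HB m 1 : ℤ) : KK) = b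
    rw [Fin.sum_univ_four]
    simp [HB]
  rw [k2, k2] at h2
  rw [k1, k1] at h1
  exact ⟨h2, h1⟩

/-! ### the action of an element shifting the types -/

section

variable {t1 t2 : ↥(chevE8.group KK)} {ζ : KK} {g : ↥(chevE8.group KK)} {ν : Fin 8 → Fin 8} {a : Fin 3}

theorem act (hg : ∀ X, aK g (ZX X) = ZX (X + a)) (p q : KK) :
    aK g (p • ZX 0 + q • ZX 1) = p • ZX (0 + a) + q • ZX (1 + a) := by
  rw [aK_add, aK_smul, aK_smul, hg, hg]

theorem Z2_act (hg : ∀ X, aK g (ZX X) = ZX (X + a)) {v : LK} (hv : Z2 v) : Z2 (aK g v) := by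
  obtain ⟨p, q, rfl⟩ := hv.eq
  rw [act hg]
  exact ((Z2.zx _).smul p).add ((Z2.zx _).smul q)

/-- the third power is trivial on `Z2` -/
theorem act_three (hg : ∀ X, aK g (ZX X) = ZX (X + a)) {v : LK} (hv : Z2 v) : aK g (aK g (aK g v)) = v := by
  have k : ∀ X : Fin 3, aK g (aK g (aK g (ZX X))) = ZX X := by
    intro X
    rw [hg, hg, hg]
    congr 1
    exact (by decide : ∀ X a : Fin 3, X + a + a + a = X) X a
  obtain ⟨p, q, rfl⟩ := hv.eq
  simp only [aK_add, aK_smul, k]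

/-- `[2]³ = 1` on the fixed points of the Frobenius map -/
theorem sq_three' (hg : ∀ X, aK g (ZX X) = ZX (X + a)) {v : LK} (hv : Z2 v)
    (hf : aK g (FR v) = v) : SQ (SQ (SQ v)) = v := by
  have h1 : aK g (SQ v) = v := by rw [hv.sq, hf]
  have h2 : aK g (SQ (SQ v)) = SQ v := by rw [aK_sq, h1]
  have h3 : aK g (SQ (SQ (SQ v))) = SQ (SQ v) := by rw [aK_sq, h2]
  have h4 := act_three hg hv.sq_mem.sq_mem.sq_mem
  rw [h3, h2, h1] at h4
  exact h4.symm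

/-- two fixed points of the Frobenius map in `Z2` -/
theorem exists_two (hg : ∀ X, aK g (ZX X) = ZX (X + a)) :
    ∃ v w : LK, Z2 v ∧ Z2 w ∧ v ≠ 0 ∧ w ≠ 0 ∧ v ≠ w ∧ aK g (FR v) = v ∧
      aK g (FR w) = w := by
  have hch := charKK
  obtain ⟨η, hη⟩ : ∃ η : KK, η ^ 3 + η + 1 = 0 := by
    have hd : (Polynomial.X ^ 3 + Polynomial.X + 1 : Polynomial KK).degree ≠ 0 := by
      have : (Polynomial.X ^ 3 + Polynomial.X + 1 : Polynomial KK).degree = 3 := by compute_degree!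
      rw [this]
      decide
    obtain ⟨η, h⟩ := IsAlgClosed.exists_root _ hd
    refine ⟨η, ?_⟩
    have h2 : Polynomial.eval η (Polynomial.X ^ 3 + Polynomial.X + 1 : Polynomial KK) = 0 := h
    simpa using h2
  have two : (2 : KK) = 0 := CharTwo.two_eq_zero
  have h0 : η ≠ 0 := by
    rintro rfl
    apply one_ne_zero (α := KK)
    linear_combination hη
  have h1 : η ≠ η ^ 2 := by
    intro h
    have h2 : η = 1 := by
      have h3 : η * (1 - η) = 0 := by linear_combination h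
      rcases mul_eq_zero.1 h3 with h4 | h4
      · exact absurd h4 h0
      · linear_combination -h4
    rw [h2] at hη
    apply one_ne_zero (α := KK)
    linear_combination hη - two
  have key : ∀ p q : KK, aK g (FR (p • ZX 0 + q • ZX 1)) =
      p ^ 2 • ZX (0 + a) + q ^ 2 • ZX (1 + a) := by
    intro p q
    rw [fr_comb, fr_zX, fr_zX, act hg]
  have nz : ∀ p q : KK, (p ≠ 0 ∨ q ≠ 0) → p • ZX 0 + q • ZX 1 ≠ 0 := by
    intro p q h e
    have e2 : p • ZX 0 + q • ZX 1 = (0 : KK) • ZX 0 + (0 : KK) • ZX 1 := by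
      rw [e, zero_smul, zero_smul, add_zero]
    obtain ⟨e3, e4⟩ := coef e2
    rcases h with h | h
    · exact h e3
    · exact h e4
  have q4 : η ^ 4 + η ^ 2 + η = 0 := by linear_combination η * hη
  have q8 : (η ^ 2) ^ 4 + (η ^ 2) ^ 2 + η ^ 2 = 0 := by
    have : (η ^ 2) ^ 4 + (η ^ 2) ^ 2 + η ^ 2 = (η ^ 4 + η ^ 2 + η) ^ 2 -
        2 * (η ^ 6 + η ^ 5 + η ^ 3) := by ring
    rw [this, q4, two]
    ring
  have hcase : ∀ a : Fin 3, a = 0 ∨ a = 1 ∨ a = 2 := by decide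
  rcases hcase a with rfl | rfl | rfl
  · refine ⟨(1 : KK) • ZX 0 + (0 : KK) • ZX 1, (0 : KK) • ZX 0 + (1 : KK) • ZX 1, Z2.of _ _, Z2.of _ _,
      nz _ _ (Or.inl one_ne_zero), nz _ _ (Or.inr one_ne_zero), ?_, ?_, ?_⟩
    · intro e
      exact one_ne_zero (coef e).1
    · rw [key, one_pow, zero_pow two_ne_zero]
      rfl
    · rw [key, one_pow, zero_pow two_ne_zero]
      rfl
  · -- `zX 0 ↦ zX 1`, `zX 1 ↦ zX 2`
    have fx : ∀ q : KK, q ^ 4 + q ^ 2 + q = 0 →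
        aK g (FR (q ^ 2 • ZX 0 + q • ZX 1)) = q ^ 2 • ZX 0 + q • ZX 1 := by
      intro q hq
      rw [key]
      have e1 : (0 : Fin 3) + 1 = 1 := rfl
      have e2 : (1 : Fin 3) + 1 = 2 := rfl
      rw [e1, e2, zX_two]
      have e3 : q = (q ^ 2) ^ 2 + q ^ 2 := by
        linear_combination hq - (q ^ 4 + q ^ 2) * two
      have : (q ^ 2) ^ 2 • ZX 1 + q ^ 2 • (ZX 0 + ZX 1) = q ^ 2 • ZX 0 + ((q ^ 2) ^ 2 + q ^ 2) • ZX 1 := by
        module
      rw [this, ← e3]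
    refine ⟨η ^ 2 • ZX 0 + η • ZX 1, (η ^ 2) ^ 2 • ZX 0 + η ^ 2 • ZX 1, Z2.of _ _, Z2.of _ _,
      nz _ _ (Or.inr h0), nz _ _ (Or.inr (pow_ne_zero 2 h0)), ?_, fx _ q4, fx _ q8⟩
    intro e
    exact h1 (coef e).2
  · -- `zX 0 ↦ zX 2`, `zX 1 ↦ zX 0`
    have fx : ∀ q : KK, q ^ 4 + q ^ 2 + q = 0 →
        aK g (FR (q • ZX 0 + q ^ 2 • ZX 1)) = q • ZX 0 + q ^ 2 • ZX 1 := by
      intro q hq
      rw [key]
      have e1 : (0 : Fin 3) + 2 = 2 := rfl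
      have e2 : (1 : Fin 3) + 2 = 0 := rfl
      rw [e1, e2, zX_two]
      have e3 : q = (q ^ 2) ^ 2 + q ^ 2 := by
        linear_combination hq - (q ^ 4 + q ^ 2) * two
      have : q ^ 2 • (ZX 0 + ZX 1) + (q ^ 2) ^ 2 • ZX 0 = ((q ^ 2) ^ 2 + q ^ 2) • ZX 0 + q ^ 2 • ZX 1 := by
        module
      rw [this, ← e3]
    refine ⟨η • ZX 0 + η ^ 2 • ZX 1, η ^ 2 • ZX 0 + (η ^ 2) ^ 2 • ZX 1, Z2.of _ _, Z2.of _ _,
      nz _ _ (Or.inl h0), nz _ _ (Or.inl (pow_ne_zero 2 h0)), ?_, fx _ q4, fx _ q8⟩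
    intro e
    exact h1 (coef e).1

end

/-! ### the module over `F₂` -/

theorem up_injective : Function.Injective up := by
  intro v w h
  funext i
  exact (algebraMap (ZMod 2) KK).injective (congrFun h i)

theorem up_zero : up 0 = 0 := by
  funext i
  exact map_zero _

theorem up_add (v w : L2) : up (v + w) = up v + up w := by
  funext i
  exact map_add _ _ _

theorem fr_up (v : L2) : FR (up v) = up v := by
  funext i
  show (algebraMap (ZMod 2) KK (v i)) ^ 2 = algebraMap (ZMod 2) KK (v i)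
  rw [← map_pow]
  congr 1
  exact (by decide : ∀ a : ZMod 2, a ^ 2 = a) _

theorem exists_up {x : LK} (h : FR x = x) : ∃ v : L2, up v = x := by
  classical
  refine ⟨fun i => if x i = 0 then 0 else 1, ?_⟩
  funext i
  have e : x i ^ 2 = x i := congrFun h i
  show algebraMap (ZMod 2) KK (if x i = 0 then 0 else 1) = x i
  by_cases h0 : x i = 0
  · rw [if_pos h0, map_zero, h0]
  · rw [if_neg h0, map_one]
    have e2 : x i * x i = x i * 1 := by rw [mul_one, ← pow_two, e]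
    exact (mul_left_cancel₀ h0 e2).symm

/-- the restricted square on `L2` -/
def S2 (s2 : L2 → L2) : Prop := ∀ v, up (s2 v) = SQ (up v)

section

variable {t1 t2 : ↥(chevE8.group KK)} {ζ : KK} {z : ↥(chevE8.group KK)} {a : Fin 3}

/-- **`Z0`** -/
noncomputable def Z0 (z : ↥(chevE8.group KK)) : Submodule (ZMod 2) L2 where
  carrier := {t | Z2 (aK z⁻¹ (up t))}
  add_mem' := by
    intro v w hv hw
    show Z2 (aK z⁻¹ (up (v + w)))
    rw [up_add, aK_add]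
    exact hv.add hw
  zero_mem' := by
    show Z2 (aK z⁻¹ (up 0))
    rw [up_zero, aK_zero]
    exact Z2.zero
  smul_mem' := by
    intro c v hv
    have hc : ∀ c : ZMod 2, c = 0 ∨ c = 1 := by decide
    rcases hc c with rfl | rfl
    · show Z2 (aK z⁻¹ (up ((0 : ZMod 2) • v)))
      rw [zero_smul, up_zero, aK_zero]
      exact Z2.zero
    · show Z2 (aK z⁻¹ (up ((1 : ZMod 2) • v)))
      rw [one_smul]
      exact hv

theorem mem_Z0 {t : L2} : t ∈ Z0 z ↔ Z2 (aK z⁻¹ (up t)) := Iff.rfl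

theorem phi_z {gF : ↥(chevE8.group KK)} (hg : z⁻¹ * phi chevE8 KK 2 1 z = gF) : phi chevE8 KK 2 1 z = z * gF := by
  rw [← hg]; group

/-- the Frobenius map in coordinates fixes the images of `L2` -/
theorem frob_up {gF : ↥(chevE8.group KK)} (hg : z⁻¹ * phi chevE8 KK 2 1 z = gF) (t : L2) :
    aK gF (FR (aK z⁻¹ (up t))) = aK z⁻¹ (up t) := by
  rw [fr_aK, fr_up, map_inv, phi_z hg, ← Cfsg.Agent.H942.DF.aK_mul']
  congr 1
  group

/-- the fixed points of the Frobenius map in coordinates are the images of `L2` -/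
theorem exists_t {gF : ↥(chevE8.group KK)} (hg : z⁻¹ * phi chevE8 KK 2 1 z = gF) {v : LK}
    (hv : aK gF (FR v) = v) : ∃ t : L2, aK z⁻¹ (up t) = v := by
  obtain ⟨t, ht⟩ := exists_up (x := aK z v) (by
    rw [fr_aK, phi_z hg, Cfsg.Agent.H942.DF.aK_mul', hv])
  exact ⟨t, by rw [ht, Cfsg.Agent.H942.DF.aK_inv_l]⟩

theorem z_inj {t t' : L2} (h : aK z⁻¹ (up t) = aK z⁻¹ (up t')) : t = t' := by
  have e := congrArg (aK z) h
  rw [Cfsg.Agent.H942.DF.aK_inv_r, Cfsg.Agent.H942.DF.aK_inv_r] at e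
  exact up_injective e

theorem up_s2 {s2 : L2 → L2} (hs : S2 s2) (t : L2) : aK z⁻¹ (up (s2 t)) = SQ (aK z⁻¹ (up t)) := by
  rw [hs, aK_sq]

theorem S2.zero {s2 : L2 → L2} (hs : S2 s2) : s2 0 = 0 := by
  apply up_injective
  rw [hs, up_zero, sq_zero]

theorem sq_mem {s2 : L2 → L2} (hs : S2 s2) {t : L2} (ht : t ∈ Z0 z) : s2 t ∈ Z0 z := by
  rw [mem_Z0, up_s2 hs]
  exact Z2.sq_mem ht

/-- **`[2]³ = 1` on `Z0`** -/
theorem sq_three {s2 : L2 → L2} (hs : S2 s2) {gF : ↥(chevE8.group KK)} (hg : z⁻¹ * phi chevE8 KK 2 1 z = gF)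
    (ha : ∀ X, aK gF (ZX X) = ZX (X + a)) {t : L2} (ht : t ∈ Z0 z) : s2 (s2 (s2 t)) = t := by
  apply z_inj (z := z)
  rw [up_s2 hs, up_s2 hs, up_s2 hs]
  exact sq_three' ha ht (frob_up hg t)

/-- `[2]` is injective at zero on `Z0` -/
theorem sq_zero' {s2 : L2 → L2} (hs : S2 s2) {gF : ↥(chevE8.group KK)} (hg : z⁻¹ * phi chevE8 KK 2 1 z = gF)
    (ha : ∀ X, aK gF (ZX X) = ZX (X + a)) {t : L2} (ht : t ∈ Z0 z) (h0 : s2 t = 0) : t = 0 := by
  rw [← sq_three hs hg ha ht, h0, hs.zero, hs.zero]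

/-- no cycles of length two -/
theorem sq_even {s2 : L2 → L2} (hs : S2 s2) {gF : ↥(chevE8.group KK)} (hg : z⁻¹ * phi chevE8 KK 2 1 z = gF)
    (ha : ∀ X, aK gF (ZX X) = ZX (X + a)) {t t' : L2} (ht : t ∈ Z0 z) (hne : t ≠ t') :
    ¬ (s2 t = t' ∧ s2 t' = t) := by
  rintro ⟨h1, h2⟩
  apply hne
  have h3 := sq_three hs hg ha ht
  rw [h1, h2] at h3
  exact h3.symm.trans h1

/-- **the dimension** -/
theorem finrank_Z0 {gF : ↥(chevE8.group KK)} (hg : z⁻¹ * phi chevE8 KK 2 1 z = gF)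
    (ha : ∀ X, aK gF (ZX X) = ZX (X + a)) : Module.finrank (ZMod 2) (Z0 z) = 2 := by
  classical
  apply le_antisymm
  · have e1 := Cfsg.Agent.H544.L34.Rat.finrank_UK (K := KK) (Z0 z)
    rw [← e1]
    let P : Submodule KK LK := Submodule.span KK {aK z (ZX 0), aK z (ZX 1)}
    have hle : Cfsg.Agent.H544.L34.Rat.UK (K := KK) (Z0 z) ≤ P := by
      unfold Cfsg.Agent.H544.L34.Rat.UK
      rw [Submodule.span_le]
      rintro _ ⟨t, ht, rfl⟩
      show (up t : LK) ∈ P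
      obtain ⟨p, q, e⟩ := Z2.eq ht
      have e2 := congrArg (aK z) e
      rw [Cfsg.Agent.H942.DF.aK_inv_r, aK_add, aK_smul, aK_smul] at e2
      rw [e2]
      exact add_mem (Submodule.smul_mem _ _ (Submodule.subset_span (by simp)))
        (Submodule.smul_mem _ _ (Submodule.subset_span (by simp)))
    refine (Submodule.finrank_mono hle).trans ?_
    refine (finrank_span_le_card _).trans ?_
    rw [Set.toFinset_insert, Set.toFinset_singleton]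
    exact Finset.card_le_two
  · obtain ⟨v, w, hv, hw, hv0, hw0, hvw, fv, fw⟩ := exists_two ha
    obtain ⟨t, ht⟩ := exists_t hg fv
    obtain ⟨t', ht'⟩ := exists_t hg fw
    have m1 : t ∈ Z0 z := by rw [mem_Z0, ht]; exact hv
    have m2 : t' ∈ Z0 z := by rw [mem_Z0, ht']; exact hw
    have n1 : t ≠ 0 := by
      rintro rfl
      rw [up_zero, aK_zero] at ht
      exact hv0 ht.symm
    have n2 : t' ≠ 0 := by
      rintro rfl
      rw [up_zero, aK_zero] at ht'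
      exact hw0 ht'.symm
    have n3 : t ≠ t' := by
      rintro rfl
      exact hvw (ht.symm.trans ht')
    have hli : LinearIndependent (ZMod 2) ![(⟨t, m1⟩ : Z0 z), ⟨t', m2⟩] := by
      rw [LinearIndependent.pair_iff]
      intro c d h
      have h1 : c • t + d • t' = 0 := congrArg Subtype.val h
      have hc : ∀ c : ZMod 2, c = 0 ∨ c = 1 := by decide
      rcases hc c with rfl | rfl <;> rcases hc d with rfl | rfl
      · exact ⟨rfl, rfl⟩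
      · rw [zero_smul, zero_add, one_smul] at h1
        exact absurd h1 n2
      · rw [zero_smul, add_zero, one_smul] at h1
        exact absurd h1 n1
      · rw [one_smul, one_smul] at h1
        refine absurd ?_ n3
        have h2 : t = -t' := eq_neg_of_add_eq_zero_left h1
        rw [h2]
        funext i
        exact (by decide : ∀ x : ZMod 2, -x = x) _
    have := hli.fintype_card_le_finrank
    simpa using this

end

/-! ### the module `K3` -/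

section

open Cfsg.Agent.H544.L34 (DFr M0 trl AA io io_inj br_io IX_io M0_Z00 mem_M0 trl_apply sep)
open Module (finrank)

/-- the frame over `F₂` -/
structure EFr (z : ↥(chevE8.group KK)) (ζ : KK) (e1 e2 qi qj : E2) : Prop where
  f : DFr (z⁻¹ * em e1 * z) (z⁻¹ * em e2 * z) ζ (z⁻¹ * em qi * z) (z⁻¹ * em qj * z)

/-- the trace of `Q₈` on `L2` -/
def tr2 (qi qj : E2) : L2 →ₗ[ZMod 2] L2 where
  toFun v := (v + a2 qi v + a2 (qi * qi) v + a2 (qi * qi * qi) v) +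
    a2 qj (v + a2 qi v + a2 (qi * qi) v + a2 (qi * qi * qi) v)
  map_add' v w := by
    have h : ∀ (g : E2) (v w : L2), a2 g (v + w) = a2 g v + a2 g w := fun g v w => Matrix.mulVec_add _ _ _
    simp only [h]
    abel
  map_smul' c v := by
    have h : ∀ (g : E2) (v w : L2), a2 g (v + w) = a2 g v + a2 g w := fun g v w => Matrix.mulVec_add _ _ _
    have h' : ∀ (g : E2) (c : ZMod 2) (v : L2), a2 g (c • v) = c • a2 g v := fun g c v => Matrix.mulVec_smul _ _ _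
    simp only [h, h', smul_add, RingHom.id_apply]

theorem tr2_apply (qi qj : E2) (v : L2) : tr2 qi qj v = (v + a2 qi v + a2 (qi * qi) v + a2 (qi * qi * qi) v) +
    a2 qj (v + a2 qi v + a2 (qi * qi) v + a2 (qi * qi * qi) v) := rfl

/-- **`K3`** -/
def K3 (e1 e2 qi qj : E2) : Submodule (ZMod 2) L2 := (F2 {e1, e2}).map (tr2 qi qj)

variable {z : ↥(chevE8.group KK)} {ζ : KK} {e1 e2 qi qj : E2}

theorem mem_F2' {v : L2} : v ∈ F2 {e1, e2} ↔ a2 e1 v = v ∧ a2 e2 v = v := by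
  rw [mem_F2]
  constructor
  · intro h
    exact ⟨h e1 (by simp), h e2 (by simp)⟩
  · rintro ⟨h1, h2⟩ g (rfl | rfl)
    · exact h1
    · exact h2

theorem a2_mul' (g h : E2) (v : L2) : a2 (g * h) v = a2 g (a2 h v) := by
  apply up_injective
  rw [← aK_em_up, ← aK_em_up, ← aK_em_up, map_mul, Cfsg.Agent.H942.DF.aK_mul']

theorem a2_add' (g : E2) (v w : L2) : a2 g (v + w) = a2 g v + a2 g w := Matrix.mulVec_add _ _ _

/-- conjugation of the action -/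
theorem conj_up (g : E2) (v : L2) : aK z⁻¹ (up (a2 g v)) = aK (z⁻¹ * em g * z) (aK z⁻¹ (up v)) := by
  rw [← aK_em_up, ← Cfsg.Agent.H942.DF.aK_mul', ← Cfsg.Agent.H942.DF.aK_mul']
  congr 1
  group

/-- the trace in coordinates -/
theorem up_tr2 (F : EFr z ζ e1 e2 qi qj) (v : L2) : aK z⁻¹ (up (tr2 qi qj v)) =
    trl (z⁻¹ * em qi * z) (z⁻¹ * em qj * z) (aK z⁻¹ (up v)) := by
  obtain ⟨f⟩ := F
  rw [trl_apply, tr2_apply]
  simp only [a2_add', a2_mul', up_add, aK_add, conj_up (z := z), f.aji, f.a4]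
  abel

theorem conj_fix {g : E2} {v : L2} : aK (z⁻¹ * em g * z) (aK z⁻¹ (up v)) = aK z⁻¹ (up v) ↔ a2 g v = v := by
  rw [← conj_up]
  constructor
  · exact fun h => z_inj h
  · exact fun h => by rw [h]

theorem mem_M0_iff {v : L2} : aK z⁻¹ (up v) ∈ M0 (z⁻¹ * em e1 * z) (z⁻¹ * em e2 * z) ↔ v ∈ F2 {e1, e2} := by
  rw [mem_M0, mem_F2', conj_fix, conj_fix]

theorem K3_up (F : EFr z ζ e1 e2 qi qj) {k : L2} (hk : k ∈ K3 e1 e2 qi qj) :
    aK z⁻¹ (up k) ∈ (M0 (z⁻¹ * em e1 * z) (z⁻¹ * em e2 * z)).map (trl (z⁻¹ * em qi * z) (z⁻¹ * em qj * z)) := by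
  obtain ⟨u, hu, rfl⟩ := hk
  exact ⟨_, mem_M0_iff.2 hu, (up_tr2 F u).symm⟩

/-- descent -/
theorem K3_of (F : EFr z ζ e1 e2 qi qj) {k : L2}
    (hk : aK z⁻¹ (up k) ∈ (M0 (z⁻¹ * em e1 * z) (z⁻¹ * em e2 * z)).map (trl (z⁻¹ * em qi * z) (z⁻¹ * em qj * z))) :
    k ∈ K3 e1 e2 qi qj := by
  obtain ⟨y, hy, e⟩ := hk
  have hconj : ∀ (g : E2) (x : LK), aK z (aK (z⁻¹ * em g * z) x) = aK (em g) (aK z x) := by
    intro g x
    rw [← Cfsg.Agent.H942.DF.aK_mul', ← Cfsg.Agent.H942.DF.aK_mul']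
    congr 1
    group
  have hyF : aK z y ∈ FK {e1, e2} := by
    rw [mem_FK]
    rintro g (rfl | rfl)
    · rw [← hconj, (mem_M0.1 hy).1]
    · rw [← hconj, (mem_M0.1 hy).2]
  have hsum : up k = (([1, qi * qi, qi, qi * (qi * qi), qj, qi * (qi * qj), qi * qj, qi * (qi * (qi * qj))] : List E2).map
      fun q => aK (em q) (aK z y)).sum := by
    have e1 := congrArg (aK z) e
    rw [Cfsg.Agent.H942.DF.aK_inv_r] at e1
    rw [← e1, trl_apply]
    simp only [List.map_cons, List.map_nil, List.sum_cons, List.sum_nil, map_one, map_mul,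
      Cfsg.Agent.H942.DF.aK_mul', Cfsg.Agent.H942.DF.aK_one', aK_add, Cfsg.Agent.H942.DF.aK_inv_r]
    abel
  obtain ⟨y', hy', e'⟩ := desc_sum hyF hsum
  refine ⟨y', hy', ?_⟩
  apply z_inj (z := z)
  rw [up_tr2 F, trl_apply, e']
  have ua : ∀ u v : L2, aK z⁻¹ (up (u + v)) = aK z⁻¹ (up u) + aK z⁻¹ (up v) := fun u v => by rw [up_add, aK_add]
  have h1 : a2 1 y' = y' := by
    apply up_injective
    rw [← aK_em_up, map_one, Cfsg.Agent.H942.DF.aK_one']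
  simp only [List.map_cons, List.map_nil, List.sum_cons, List.sum_nil, h1, ua, a2_mul', up_zero, aK_zero,
    conj_up (z := z)]
  abel

/-- elements of `Z2` act by scalars -/
theorem AA_hx (h : EF (z⁻¹ * em e1 * z) (z⁻¹ * em e2 * z) ζ) (x : Fin 4 → KK) (X : Fin 3) (w : Fin 8) :
    AA X w (hx x) = lam X w x • (1 : Module.End KK (Fin 8 → KK)) := by
  refine LinearMap.ext fun v => ?_
  apply io_inj X w
  have hm : hx x ∈ M0 (z⁻¹ * em e1 * z) (z⁻¹ * em e2 * z) := Cfsg.Agent.H544.L34.mem_M0'.2 (h.hvM _)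
  rw [← br_io (M0_Z00 h hm), (IX_io X w v).br, LinearMap.smul_apply, Module.End.one_apply, map_smul]

theorem scalar_nil {c : KK} (h : IsNilpotent (c • (1 : Module.End KK (Fin 8 → KK)))) : c = 0 := by
  obtain ⟨n, hn⟩ := h
  rw [smul_pow, one_pow] at hn
  have h1 := congrFun (LinearMap.congr_fun hn (Pi.single 0 1)) 0
  rw [LinearMap.smul_apply, Module.End.one_apply, Pi.smul_apply, Pi.single_eq_same, smul_eq_mul, mul_one,
    LinearMap.zero_apply, Pi.zero_apply] at h1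
  exact (pow_eq_zero_iff (by
    rintro rfl
    rw [pow_zero] at h1
    exact one_ne_zero h1)).1 h1

/-- **`K3 ⊓ Z0 = ⊥`** -/
theorem K3_inf_Z0 (F : EFr z ζ e1 e2 qi qj) : K3 e1 e2 qi qj ⊓ Z0 z = ⊥ := by
  rw [eq_bot_iff]
  rintro k ⟨hk, hz⟩
  rw [Submodule.mem_bot]
  obtain ⟨x, x0, x1, e⟩ := hz
  apply z_inj (z := z)
  have hn : ∀ X w, AA X w (aK z⁻¹ (up k)) = 0 := by
    intro X w
    have h1 := F.f.tr_nil X w (K3_up F hk)
    rw [e, AA_hx F.f.ef] at h1 ⊢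
    rw [scalar_nil h1, zero_smul]
  obtain ⟨y, hy, ey⟩ := K3_up F hk
  have hm : aK z⁻¹ (up k) ∈ M0 (z⁻¹ * em e1 * z) (z⁻¹ * em e2 * z) := F.f.tr_le (K3_up F hk)
  rw [sep F.f.ef hm hn, up_zero, aK_zero]

/-- the square acts as the square -/
theorem AA_sq' {x : LK} {t1 t2 : ↥(chevE8.group KK)} (h : EF t1 t2 ζ) (hx : x ∈ M0 t1 t2) (X : Fin 3) (w : Fin 8) :
    AA X w (SQ x) = AA X w x * AA X w x := by
  have hs : SQ x ∈ M0 t1 t2 := by
    rw [mem_M0] at hx ⊢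
    exact ⟨by rw [aK_sq, hx.1], by rw [aK_sq, hx.2]⟩
  refine LinearMap.ext fun v => ?_
  apply io_inj X w
  rw [Module.End.mul_apply, ← br_io (M0_Z00 h hs), ← br_io (M0_Z00 h hx), ← br_io (M0_Z00 h hx), br_sq]

/-- **`K3` is closed under `[2]`** -/
theorem K3_sq (F : EFr z ζ e1 e2 qi qj)
    (h3 : 3 ≤ finrank KK ((M0 (z⁻¹ * em e1 * z) (z⁻¹ * em e2 * z)).map (trl (z⁻¹ * em qi * z) (z⁻¹ * em qj * z))))
    {s2 : L2 → L2} (hs : S2 s2) {k : L2} (hk : k ∈ K3 e1 e2 qi qj) : s2 k ∈ K3 e1 e2 qi qj := by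
  have hu := K3_up F hk
  have hm : aK z⁻¹ (up k) ∈ M0 (z⁻¹ * em e1 * z) (z⁻¹ * em e2 * z) := F.f.tr_le hu
  obtain ⟨y, hy, ey⟩ := id hu
  apply K3_of F
  rw [up_s2 hs]
  refine F.f.dnil h3 ?_ ?_ ?_ ?_
  · rw [mem_M0] at hm ⊢
    exact ⟨by rw [aK_sq, hm.1], by rw [aK_sq, hm.2]⟩
  · rw [aK_sq, ← ey, F.f.fi]
  · rw [aK_sq, ← ey, F.f.fj]
  · intro X w
    rw [AA_sq' F.f.ef hm]
    have := F.f.tr_nil X w hu
    obtain ⟨n, hn⟩ := this
    exact ⟨n, by rw [← pow_two, ← pow_mul, mul_comm, pow_mul, hn, zero_pow two_ne_zero]⟩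
  
/-- `K3` is fixed by the frame -/
theorem K3_fix (F : EFr z ζ e1 e2 qi qj) {k : L2} (hk : k ∈ K3 e1 e2 qi qj) :
    a2 e1 k = k ∧ a2 e2 k = k ∧ a2 qi k = k ∧ a2 qj k = k := by
  have hu := K3_up F hk
  have hm : aK z⁻¹ (up k) ∈ M0 (z⁻¹ * em e1 * z) (z⁻¹ * em e2 * z) := F.f.tr_le hu
  obtain ⟨y, hy, ey⟩ := id hu
  refine ⟨conj_fix.1 (mem_M0.1 hm).1, conj_fix.1 (mem_M0.1 hm).2, (conj_fix (z := z)).1 ?_, (conj_fix (z := z)).1 ?_⟩
  · rw [← ey, F.f.fi]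
  · rw [← ey, F.f.fj]

/-- **`Z0` is fixed by the frame** -/
theorem Z0_fix (F : EFr z ζ e1 e2 qi qj) {t : L2} (ht : t ∈ Z0 z) :
    a2 e1 t = t ∧ a2 e2 t = t ∧ a2 qi t = t ∧ a2 qj t = t := by
  obtain ⟨x, x0, x1, e⟩ := ht
  have hm : aK z⁻¹ (up t) ∈ M0 (z⁻¹ * em e1 * z) (z⁻¹ * em e2 * z) := by
    rw [e]
    exact Cfsg.Agent.H544.L34.mem_M0'.2 (F.f.ef.hvM _)
  refine ⟨conj_fix.1 (mem_M0.1 hm).1, conj_fix.1 (mem_M0.1 hm).2, (conj_fix (z := z)).1 ?_, (conj_fix (z := z)).1 ?_⟩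
  · rw [e]
    exact F.f.ef.fixZ_i F.f.i1 F.f.i2 F.f.i4 x0 x1
  · rw [e]
    exact F.f.ef.fixZ_j F.f.j1 F.f.j2 F.f.j4 x0 x1

/-- **`Z0` is central in the fixed algebra of `E`** -/
theorem br_Z0 (F : EFr z ζ e1 e2 qi qj) {v t : L2} (hv : v ∈ F2 {e1, e2}) (ht : t ∈ Z0 z) : br2 v t = 0 := by
  obtain ⟨x, x0, x1, e⟩ := ht
  apply z_inj (z := z)
  rw [Cfsg.Agent.H436.L34.up_br, aK_brK, e, up_zero, aK_zero, br_comm]
  exact (F.f.ef.hx_mem x).2 _ (Cfsg.Agent.H544.L34.mem_M0'.1 (mem_M0_iff.2 hv))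

theorem br_K3_Z0 (F : EFr z ζ e1 e2 qi qj) {k t : L2} (hk : k ∈ K3 e1 e2 qi qj) (ht : t ∈ Z0 z) : br2 k t = 0 :=
  br_Z0 F (mem_F2'.2 ⟨(K3_fix F hk).1, (K3_fix F hk).2.1⟩) ht

theorem br_Z0_Z0 (F : EFr z ζ e1 e2 qi qj) {t t' : L2} (ht : t ∈ Z0 z) (ht' : t' ∈ Z0 z) : br2 t t' = 0 :=
  br_Z0 F (mem_F2'.2 ⟨(Z0_fix F ht).1, (Z0_fix F ht).2.1⟩) ht'

/-- the shift of the types by the Frobenius map -/
theorem exists_shift (F : EFr z ζ e1 e2 qi qj) : ∃ a : Fin 3, ∀ X, aK (z⁻¹ * phi chevE8 KK 2 1 z) (ZX X) = ZX (X + a) := by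
  obtain ⟨a, -, -, h⟩ := F.f.ef.frob_shift (z0 := z) rfl rfl rfl
  refine ⟨a, fun X => ?_⟩
  have := h X
  rwa [fr_zX] at this

/-- **EVEN** : the facts on `K3`, `Z0` -/
theorem even (F : EFr z ζ e1 e2 qi qj)
    (h3 : 3 ≤ finrank KK ((M0 (z⁻¹ * em e1 * z) (z⁻¹ * em e2 * z)).map (trl (z⁻¹ * em qi * z) (z⁻¹ * em qj * z))))
    {s2 : L2 → L2} (hs : S2 s2) :
    finrank (ZMod 2) (Z0 z) = 2 ∧ K3 e1 e2 qi qj ⊓ Z0 z = ⊥ ∧ (∀ k ∈ K3 e1 e2 qi qj, s2 k ∈ K3 e1 e2 qi qj) ∧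
    (∀ t ∈ Z0 z, s2 t ∈ Z0 z) ∧ (∀ t ∈ Z0 z, s2 t = 0 → t = 0) ∧ (∀ k ∈ K3 e1 e2 qi qj, ∀ t ∈ Z0 z, br2 k t = 0) ∧
    (∀ t ∈ Z0 z, ∀ t' ∈ Z0 z, br2 t t' = 0) ∧ (∀ t ∈ Z0 z, ∀ t' ∈ Z0 z, t ≠ t' → ¬ (s2 t = t' ∧ s2 t' = t)) ∧
    (∀ t ∈ Z0 z, s2 (s2 (s2 t)) = t) ∧
    (∀ k ∈ K3 e1 e2 qi qj, a2 e1 k = k ∧ a2 e2 k = k ∧ a2 qi k = k ∧ a2 qj k = k) ∧
    ∀ t ∈ Z0 z, a2 e1 t = t ∧ a2 e2 t = t ∧ a2 qi t = t ∧ a2 qj t = t := by
  obtain ⟨a, ha⟩ := exists_shift F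
  exact ⟨finrank_Z0 rfl ha, K3_inf_Z0 F, fun k hk => K3_sq F h3 hs hk, fun t ht => sq_mem hs ht,
    fun t ht h0 => sq_zero' hs rfl ha ht h0, fun k hk t ht => br_K3_Z0 F hk ht, fun t ht t' ht' => br_Z0_Z0 F ht ht',
    fun t ht t' _ hne => sq_even hs rfl ha ht hne, fun t ht => sq_three hs rfl ha ht, fun k hk => K3_fix F hk,
    fun t ht => Z0_fix F ht⟩

end

end Cfsg.Agent.H400.L34.Even
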