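import Cfsg.Agent.H400.L34.QFree
import Cfsg.Agent.H400.L34.QNorm

/-!
# S5917, type (D): the regular module of the quaternion group and its invariant forms
-/

namespace Cfsg.Agent.H400.L34.QFree

open Cfsg.Agent.H400.L34.QNorm (QD)

variable {K M : Type*} [Field K] [AddCommGroup M] [Module K M] {i j : M →ₗ[K] M}

def Li : (Fin 8 → K) →ₗ[K] (Fin 8 → K) := LinearMap.funLeft K K ![3, 0, 1, 2, 7, 4, 5, 6]
def Lj : (Fin 8 → K) →ₗ[K] (Fin 8 → K) := LinearMap.funLeft K K ![6, 5, 4, 7, 0, 3, 2, 1]

theorem Li_apply (x : Fin 8 → K) (k : Fin 8) :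
    (Li x : Fin 8 → K) k = x ((![3, 0, 1, 2, 7, 4, 5, 6] : Fin 8 → Fin 8) k) := rfl

theorem Lj_apply (x : Fin 8 → K) (k : Fin 8) :
    (Lj x : Fin 8 → K) k = x ((![6, 5, 4, 7, 0, 3, 2, 1] : Fin 8 → Fin 8) k) := rfl

theorem ql_reg : QL (K := K) (M := Fin 8 → K) Li Lj where
  sq := fun v => by
    funext k
    simp only [Li_apply, Lj_apply]
    congr 1
    revert k; decide
  four := fun v => by
    funext k
    simp only [Li_apply]
    congr 1
    revert k; decide
  comm := fun v => by
    funext k
    simp only [Li_apply, Lj_apply]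
    congr 1
    revert k; decide

/-- the eight vectors `i^a j^b e` -/
def vec (i j : M →ₗ[K] M) (e : M) : Fin 8 → M :=
  ![e, i e, i (i e), i (i (i e)), j e, i (j e), i (i (j e)), i (i (i (j e)))]

theorem QL.indep (h : QL i j) [CharP K 2] {e : M} (he : nrm i j e ≠ 0) :
    LinearIndependent K (vec i j e) := by
  rw [linearIndependent_iff_injective_fintypeLinearCombination]
  rw [← LinearMap.ker_eq_bot]
  by_contra hk
  have hi : ∀ x ∈ LinearMap.ker (Fintype.linearCombination K (vec i j e)),
      Li x ∈ LinearMap.ker (Fintype.linearCombination K (vec i j e)) := by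
    intro x hx
    rw [LinearMap.mem_ker, Fintype.linearCombination_apply, Fin.sum_univ_eight] at hx ⊢
    have := congrArg i hx
    simp only [vec, Li_apply, Matrix.cons_val, map_add, map_smul, map_zero, h.four] at this ⊢
    rw [← this]
    module
  have hj : ∀ x ∈ LinearMap.ker (Fintype.linearCombination K (vec i j e)),
      Lj x ∈ LinearMap.ker (Fintype.linearCombination K (vec i j e)) := by
    intro x hx
    rw [LinearMap.mem_ker, Fintype.linearCombination_apply, Fin.sum_univ_eight] at hx ⊢
    have := congrArg j hx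
    simp only [vec, Lj_apply, Matrix.cons_val, map_add, map_smul, map_zero, h.ji, h.four,
      h.sq] at this ⊢
    rw [← this]
    module
  obtain ⟨x, hx, hx0, h1, h2⟩ := ql_reg.exists_fix hi hj hk
  have e1 := fun k => congrFun h1 k
  have e2 := fun k => congrFun h2 k
  simp only [Li_apply, Lj_apply] at e1 e2
  have k1 := e1 1
  have k2 := e1 2
  have k3 := e1 3
  have k5 := e1 5
  have k6 := e1 6
  have k7 := e1 7
  have k4 := e2 4
  simp only [Matrix.cons_val] at k1 k2 k3 k4 k5 k6 k7
  rw [LinearMap.mem_ker, Fintype.linearCombination_apply, Fin.sum_univ_eight] at hx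
  simp only [vec, Matrix.cons_val] at hx
  have hs : x 0 • nrm i j e = 0 := by
    rw [← hx, ← k7, ← k6, ← k5, ← k4, ← k3, ← k2, ← k1]
    unfold nrm
    module
  have h0 : x 0 = 0 := by
    rcases smul_eq_zero.1 hs with h | h
    · exact h
    · exact absurd h he
  apply hx0
  funext k
  fin_cases k
  · exact h0
  · exact k1.symm.trans h0
  · exact k2.symm.trans (k1.symm.trans h0)
  · exact k3.symm.trans (k2.symm.trans (k1.symm.trans h0))
  · exact k4.symm.trans h0
  · exact k5.symm.trans (k4.symm.trans h0)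
  · exact k6.symm.trans (k5.symm.trans (k4.symm.trans h0))
  · exact k7.symm.trans (k6.symm.trans (k5.symm.trans (k4.symm.trans h0)))

end Cfsg.Agent.H400.L34.QFree
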